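import Groth.Agent.BunMod.K890.KSBase
import Groth.Agent.BunMod.K706.TensFam
import Groth.Agent.BunMod.K54.TwExact
import Groth.Agent.Krr.H496.PullK0

/-!
# Subbundles of the members of the cokernel family ("seeds")

`SubFam k e R c N r m`, `R` a `k`-algebra, `c : Fin M → R`: an exact sequence `0 ⟶ S ⟶ V_c ⟶ Q ⟶ 0` on `X_R` with
`S`, `Q` of ranks `r`, `m`, together with `E` dual to `S` and `F` with `F ⊗ N ≅ Q`, both admissible (semistable of
degree zero on the geometric fibres).  `SubFam.pull`: base change.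
-/

set_option autoImplicit false
universe u

open CategoryTheory CategoryTheory.Limits AlgebraicGeometry

namespace K890.Seed

open K140.BM K524.X1Fam K311.KE K824.Join K890.KS Groth.Agent Groth.Agent.LoccohB.HHmap
  Groth.Agent.LoccohB.SectLin303 K54.Theta K54.FamSec
open scoped Groth.Agent.Dcoh.MonCat

variable {k : Type u} [Field k] {X : Scheme.{u}} [X.Over (Spec (CommRingCat.of k))] {K G : X.Modules} {M : ℕ}

/-- The base change isomorphism. -/
noncomputable def bcI (e : Fin M → (K ⟶ G)) {A B : Type u} [CommRing A] [Algebra k A] [CommRing B] [Algebra k B]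
    (φ : A →ₐ[k] B) (c : Fin M → A) (c' : Fin M → B) (hc : ∀ i, c' i = φ (c i)) :
    pl k X (mA φ) (VA e A c) ≅ VA e B c' := (exists_bc e φ c c' hc).choose

theorem bcI_pi (e : Fin M → (K ⟶ G)) {A B : Type u} [CommRing A] [Algebra k A] [CommRing B] [Algebra k B]
    (φ : A →ₐ[k] B) (c : Fin M → A) (c' : Fin M → B) (hc : ∀ i, c' i = φ (c i)) :
    (Scheme.Modules.pullback (PicF.XTmap (st k X) (mA φ))).map (πA e A c) ≫ (bcI e φ c c' hc).hom =
        (cstI (mA φ) G).inv ≫ πA e B c' := (exists_bc e φ c c' hc).choose_spec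

variable (k) in
/-- A subbundle `S` of rank `r` of the member `V_c` of the cokernel family over `R` with quotient `Q` of rank `m`, the
dual `E` of `S` and `F = Q ⊗ N⁻¹`, both admissible of degree `0`. -/
structure SubFam (e : Fin M → (K ⟶ G)) (R : Type u) [CommRing R] [Algebra k R] (c : Fin M → R) (N : X.Modules)
    (r m : ℕ) where
  /-- the subbundle -/
  S : (PicF.XT (st k X) (SpA k R)).Modules
  /-- the quotient -/
  Q : (PicF.XT (st k X) (SpA k R)).Modules
  /-- the dual of `S` -/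
  E : (PicF.XT (st k X) (SpA k R)).Modules
  /-- `Q ⊗ N⁻¹` -/
  F : (PicF.XT (st k X) (SpA k R)).Modules
  /-- the inclusion -/
  i : S ⟶ VA e R c
  /-- the projection -/
  p : VA e R c ⟶ Q
  w : i ≫ p = 0
  ex : (ShortComplex.mk i p w).ShortExact
  hS : FlatMod.IsFinLocFreeOfRank r S
  hQ : FlatMod.IsFinLocFreeOfRank m Q
  pair : Nonempty (ExactPairing S E)
  tw : Nonempty (CohB1.tensorMod F (cst k (SpA k R) N) ≅ Q)
  okE : BunMod.ussOK (st k X) r 0 (SpA k R) E
  okF : BunMod.ussOK (st k X) m 0 (SpA k R) F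

variable {e : Fin M → (K ⟶ G)} {R R' : Type u} [CommRing R] [Algebra k R] [CommRing R'] [Algebra k R']
  {c : Fin M → R} {c' : Fin M → R'} {N : X.Modules} {r m : ℕ}

/-- Two such data, over `R` and over an `R`-algebra `R'`, are compatible if `E` and `F` of the second are the
pull-backs of those of the first. -/
def Compat (φ : R →ₐ[k] R') (s : SubFam k e R c N r m) (s' : SubFam k e R' c' N r m) : Prop :=
  Nonempty (s'.E ≅ pl k X (mA φ) s.E) ∧ Nonempty (s'.F ≅ pl k X (mA φ) s.F)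

theorem shortExact_cong {C : Type*} [Category* C] [Abelian C] {S V Q V' : C} {i : S ⟶ V} {p : V ⟶ Q} {w : i ≫ p = 0}
    (h : (ShortComplex.mk i p w).ShortExact) (I : V ≅ V') (w' : (i ≫ I.hom) ≫ I.inv ≫ p = 0) :
    (ShortComplex.mk (i ≫ I.hom) (I.inv ≫ p) w').ShortExact :=
  ShortComplex.shortExact_of_iso (S₁ := ShortComplex.mk i p w)
    (ShortComplex.isoMk (Iso.refl _) I (Iso.refl _) (by simp) (by simp)) h

/-- **Base change of subbundles.** -/
noncomputable def SubFam.pull (s : SubFam k e R c N r m) (φ : R →ₐ[k] R') (c' : Fin M → R')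
    (hc : ∀ i, c' i = φ (c i)) : SubFam k e R' c' N r m where
  S := pl k X (mA φ) s.S
  Q := pl k X (mA φ) s.Q
  E := pl k X (mA φ) s.E
  F := pl k X (mA φ) s.F
  i := (Scheme.Modules.pullback (PicF.XTmap (st k X) (mA φ))).map s.i ≫ (bcI e φ c c' hc).hom
  p := (bcI e φ c c' hc).inv ≫ (Scheme.Modules.pullback (PicF.XTmap (st k X) (mA φ))).map s.p
  w := by
    rw [Category.assoc, Iso.hom_inv_id_assoc, ← Functor.map_comp, s.w, Functor.map_zero]
  ex := shortExact_cong
    (Krr.H496.PullK0.shortExact_pullback_of_isFinLocFree (PicF.XTmap (st k X) (mA φ)) s.ex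
      (K707.Base.isFinLocFree_of_rank s.hQ))
    (bcI e φ c c' hc) _
  hS := PerfB.FibreConc.isFinLocFreeOfRank_pullback _ s.hS
  hQ := PerfB.FibreConc.isFinLocFreeOfRank_pullback _ s.hQ
  pair := by
    obtain ⟨h⟩ := s.pair
    let _ := Dcoh.MonPull.monPull (PicF.XTmap (st k X) (mA φ))
    exact ⟨Dcoh.MonDual.mapExactPairing (Scheme.Modules.pullback (PicF.XTmap (st k X) (mA φ))) s.S s.E⟩
  tw := by
    obtain ⟨t⟩ := s.tw
    exact ⟨(TwPl (mA φ) s.F N).symm ≪≫ (Scheme.Modules.pullback (PicF.XTmap (st k X) (mA φ))).mapIso t⟩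
  okE := K562.OkPull.ussOK_pull _ _ s.okE
  okF := K562.OkPull.ussOK_pull _ _ s.okF

theorem SubFam.compat_pull (s : SubFam k e R c N r m) (φ : R →ₐ[k] R') (c' : Fin M → R')
    (hc : ∀ i, c' i = φ (c i)) : Compat φ s (s.pull φ c' hc) := 
  ⟨⟨Iso.refl (pl k X (mA φ) s.E)⟩, ⟨Iso.refl (pl k X (mA φ) s.F)⟩⟩

end K890.Seed
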