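import Groth.Agent.BunMod.K524.X1Fam
import Groth.Prelude.Def_RefHull
import Mathlib.RingTheory.Derivation.Basic
import Mathlib.RingTheory.PowerSeries.Derivative

/-!
# Kodaira-Spencer block: statements

`K` (rank one), `G` (rank `n + 1`) on the curve `X`, `e` a basis of `Hom(K, G)`, `A` a `k`-algebra, `c : Fin M → A`;
`VA e A c` is the cokernel of `∑ c_i e_i : K_A ⟶ G_A` on `X_A`.

* `KSMain e A c`: for every exact `0 ⟶ S ⟶ V_c ⟶ Q ⟶ 0` with `S`, `Q` finite locally free there is a surjective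
  `A`-linear map `κ : A^M ⟶ H¹(X_A, S^∨ ⊗ Q)` which kills `δ ∘ c` for all `k`-derivations `δ` of `A`.
* `KSKill e A c`: for every `k`-derivation `δ` the map `(∑ δ(c_i) e_i) ≫ π ≫ p : K_A ⟶ Q` extends to the inverse image
  of `S` in `G_A`.
-/

set_option autoImplicit false
universe u

open CategoryTheory CategoryTheory.Limits AlgebraicGeometry PowerSeries

namespace K890.KS

open K140.BM K524.X1Fam K311.KE Groth.Agent Groth.Agent.LoccohB.HHmap Groth.Agent.LoccohB.SectLin303

/-- `Spec A` over `k`. -/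
noncomputable abbrev SpA (k : Type u) [Field k] (A : Type u) [CommRing A] [Algebra k A] : Over (B0 k) :=
  Over.mk (Spec.map (CommRingCat.ofHom (algebraMap k A)))

/-- Elements of `A` as functions on `Spec A`. -/
noncomputable def fn (k : Type u) [Field k] {A : Type u} [CommRing A] [Algebra k A] : A →+* Γ((SpA k A).left, ⊤) :=
  (Scheme.ΓSpecIso (CommRingCat.of A)).inv.hom

variable {k : Type u} [Field k] {X : Scheme.{u}} [X.Over (Spec (CommRingCat.of k))] {K G : X.Modules} {M : ℕ}
  (e : Fin M → (K ⟶ G))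

/-- The map `∑ v_i e_i : K_A ⟶ G_A` on `X_A`. -/
noncomputable abbrev ueA (A : Type u) [CommRing A] [Algebra k A] (v : Fin M → A) :
    cst k (SpA k A) K ⟶ cst k (SpA k A) G := uu e (SpA k A) fun i => fn k (v i)

/-- The cokernel `V_c` of `∑ c_i e_i` on `X_A`. -/
noncomputable abbrev VA (A : Type u) [CommRing A] [Algebra k A] (c : Fin M → A) :
    (PicF.XT (st k X) (SpA k A)).Modules := FE e (SpA k A) fun i => fn k (c i)

/-- The projection `G_A ⟶ V_c`. -/
noncomputable abbrev πA (A : Type u) [CommRing A] [Algebra k A] (c : Fin M → A) :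
    cst k (SpA k A) G ⟶ VA e A c := cokernel.π (uu e (SpA k A) fun i => fn k (c i))

/-- `H¹(X_A, H)` as sections of `R¹p_* H`. -/
noncomputable abbrev R1 (A : Type u) [CommRing A] [Algebra k A] (H : (PicF.XT (st k X) (SpA k A)).Modules) :=
  Γ((Coh.Rpush (PicF.XTproj (st k X) (SpA k A)) 1).obj H, ⊤)

/-- **(KSMAIN)** -/
def KSMain (A : Type u) [CommRing A] [Algebra k A] (c : Fin M → A) : Prop :=
  ∀ (S Q : (PicF.XT (st k X) (SpA k A)).Modules) (i : S ⟶ VA e A c) (p : VA e A c ⟶ Q) (w : i ≫ p = 0),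
    (ShortComplex.mk i p w).ShortExact → FlatMod.IsFinLocFree S → FlatMod.IsFinLocFree Q →
    ∃ κ : (Fin M → A) →+ R1 (k := k) A (CohB1.tensorMod (RefHull.dual S) Q), Function.Surjective κ ∧
      (∀ (a : A) (v : Fin M → A), κ (a • v) = fn k a • κ v) ∧
      ∀ δ : Derivation k A A, κ (fun i => δ (c i)) = 0

/-- **(KSKILL)** -/
def KSKill (A : Type u) [CommRing A] [Algebra k A] (c : Fin M → A) : Prop :=
  ∀ (Q : (PicF.XT (st k X) (SpA k A)).Modules) (p : VA e A c ⟶ Q), Epi p → FlatMod.IsFinLocFree Q →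
    ∀ δ : Derivation k A A, ∃ h : kernel (πA e A c ≫ p) ⟶ Q,
      kernel.lift (πA e A c ≫ p) (ueA e A c)
        (by rw [← Category.assoc]; exact (congrArg (· ≫ p) (cokernel.condition _)).trans zero_comp) ≫ h =
        ueA e A (fun i => δ (c i)) ≫ πA e A c ≫ p

end K890.KS
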