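import Groth.Agent.BunMod.K890.RegMain
import Groth.Agent.BunMod.K276.Data
import Groth.Agent.BunMod.K761.VpRank
import Groth.Agent.Variety.K420.DetMain

/-!
# The local estimate (REG) for the data `K276.Data`
-/

set_option autoImplicit false
universe u

open CategoryTheory CategoryTheory.Limits AlgebraicGeometry PowerSeries MonoidalCategory

namespace K890.RegData

open K140.BM K524.X1Fam K311.KE K824.Join K890.KS K890.Seed K890.Reg K890.RegMain Groth.Agent K54.Theta K54.FamSec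
open scoped Groth.Agent.Dcoh.MonCat

variable {k : Type u} [Field k] {X : Scheme.{u}} [X.Over (Spec (CommRingCat.of k))]
  [IsProper (X ↘ Spec (CommRingCat.of k))] [Smooth (X ↘ Spec (CommRingCat.of k))]
  [GeometricallyConnected (X ↘ Spec (CommRingCat.of k))]

/-- The degree of `G`. -/
theorem deg_G (hdim : topologicalKrullDim X = 1) {r m : ℕ} {d : ℤ} {N D₀ : X.Modules} (C : K276.Data k X r m N D₀)
    (hD₀ : PicF.IsInvertible D₀) (hd : Curv2.deg k X D₀ 1 = d) :
    Curv2.deg k X C.G (r + m + 1) = Curv2.deg k X C.K 1 + d := by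
  have hX : IsIntegral X := K705.Setup.isIntegral_of_geomConn k X
  have Cv : K707.Base.Crv k X := K707.Base.Crv.of_smooth hdim
  obtain ⟨D, hD, hKD⟩ := C.det
  rw [add_comm 1 (r + m)] at hD
  rw [K420.DetMain.deg_det k hdim C.hG hD, ← K757.Geo.deg_congr hKD 1, K757.Geo.deg_tw Cv C.hK hD₀, hd,
    Nat.cast_one, one_mul]

/-- **(REG) for the data of a versal family.** -/
theorem reg_data [CharZero k] (hdim : topologicalKrullDim X = 1) {g r m : ℕ} (hr : 0 < r) (hm : 0 < m) (hg : 2 ≤ g)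
    {N D₀ : X.Modules} (hN : PicF.IsInvertible N) (hNd : Curv2.deg k X N 1 = (g : ℤ) - 1)
    (hχ : Curv2.euler k X (Coh.structureModule X) = 1 - (g : ℤ)) (hD₀ : PicF.IsInvertible D₀)
    (hD₀d : Curv2.deg k X D₀ 1 = m * ((g : ℤ) - 1)) (D : K276.Data k X r m N D₀)
    (hH : ∀ (Ω : Type u) [Field Ω] [IsAlgClosed Ω] [Algebra k Ω] (γ : Fin D.M → Ω), K276.GenAlg.Gen k γ →
      Subsingleton (Coh.HH (PicF.XT (st k X) (SpA k Ω)) (CohB1.tensorMod (VA (k := k) D.e Ω γ) (cst k (SpA k Ω) D.G')) 1))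
    (ks : ∀ (A : Type u) [CommRing A] [IsNoetherianRing A] [IsDomain A] [Algebra k A] (c : Fin D.M → A),
      FlatMod.IsFinLocFreeOfRank (r + m) (VA (k := k) D.e A c) → Mono (ueA (k := k) D.e A c) →
      Subsingleton (Coh.HH (PicF.XT (st k X) (SpA k A)) (CohB1.tensorMod (VA (k := k) D.e A c) (cst k (SpA k A) D.G')) 1) →
      KSMain (k := k) D.e A c) :
    K536.Asm.REG (k := k) D.e N r m := by
  intro Ω _ _ a b hab L _ _ x e₀ τ Φ he hτ hΦ s
  have hcl : IsAlgClosed Ω := hab.isAlgClosed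
  have hrank : ∀ (γ : Fin D.M → Ω), K276.GenAlg.Gen k γ → FlatMod.IsFinLocFreeOfRank (r + m) (VA (k := k) D.e Ω γ) :=
    fun γ hγ => K761.VpRank.isFinLocFreeOfRank D.e hdim.le (by omega) D.hK D.hG (K761.VpRank.epi_biproduct D.e D.epi) Ω hγ
  have I : Inp (k := k) D.e Ω N r m g := by
    refine inp D.e Ω hdim hr hm hg hN hNd hχ D.hK D.hG (deg_G hdim D hD₀ hD₀d) ?_ ?_ ?_
    · exact fun a b hab t => hrank _ (K276.GenAlg.gen_line hab t)
    · intro a b hab t
      have h1 := K276.GenAlg.gen_line hab t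
      exact ks Ω _ (hrank _ h1) (K761.VpRank.mono_ueA D.e hdim.le (by omega) D.hK D.hG
        (K761.VpRank.epi_biproduct D.e D.epi) Ω h1) (hH Ω _ h1)
    · intro a b hab τ
      have hl := isLocalHom_rho k Ω
      have h1 := K276.GenAlg.gen_line hab (constantCoeff τ)
      have h : (fun i => rho k Ω (C (a i) + τ * C (b i))) = fun i => a i + constantCoeff τ * b i := by
        funext i
        change constantCoeff _ = _
        simp
      have h2 := K619.VpLoc.vp D.e (rho k Ω) (fun i => C (a i) + τ * C (b i)) D.hK D.hG (by rw [h]; exact hrank _ h1)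
        D.hG' (by rw [h]; exact hH Ω _ h1)
      exact ks Ω⟦X⟧ _ h2.2.1 h2.1 h2.2.2
  exact reg hdim I hab.indep s he hτ Φ hΦ

end K890.RegData
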