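import Groth.Agent.BunMod.K890.KSDefs

/-!
# Base change and scaling of the cokernel families over affine bases

* `exists_bc`: for `φ : A →ₐ[k] B` an isomorphism `(VA e A c)_B ≅ VA e B (φ ∘ c)` compatible with the projections of
  `G`;
* `exists_scale`: `VA e A (u • c) ≅ VA e A c` for a unit `u`, compatible with the projections of `G`.
-/

set_option autoImplicit false
universe u

open CategoryTheory CategoryTheory.Limits AlgebraicGeometry

namespace K890.KS

open K140.BM K524.X1Fam K311.KE K824.Join Groth.Agent Groth.Agent.LoccohB.HHmap Groth.Agent.LoccohB.SectLin303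

variable {k : Type u} [Field k] {X : Scheme.{u}} [X.Over (Spec (CommRingCat.of k))] {K G : X.Modules} {M : ℕ}
  (e : Fin M → (K ⟶ G))

theorem fn_nat {A B : Type u} [CommRing A] [Algebra k A] [CommRing B] [Algebra k B] (φ : A →ₐ[k] B) (a : A) :
    (mA φ).left.appTop (fn k a) = fn k (φ a) :=
  appTop_kOf φ.toRingHom a

/-- **Base change.** -/
theorem exists_bc {A B : Type u} [CommRing A] [Algebra k A] [CommRing B] [Algebra k B] (φ : A →ₐ[k] B)
    (c : Fin M → A) (c' : Fin M → B) (hc : ∀ i, c' i = φ (c i)) :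
    ∃ I : pl k X (mA φ) (VA e A c) ≅ VA e B c',
      (Scheme.Modules.pullback (PicF.XTmap (st k X) (mA φ))).map (πA e A c) ≫ I.hom =
        (cstI (mA φ) G).inv ≫ πA e B c' := by
  obtain rfl : (fun i => φ (c i)) = c' := funext fun i => (hc i).symm
  have h2 := uu_nat e (mA φ) (fun i => fn k (c i))
  have h3 : (fun i => (mA φ).left.appTop (fn k (c i))) = fun i => fn k (φ (c i)) := funext fun i => fn_nat φ _
  rw [h3] at h2
  refine ⟨PreservesCokernel.iso (Scheme.Modules.pullback (PicF.XTmap (st k X) (mA φ)))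
      (uu e (SpA k A) fun i => fn k (c i)) ≪≫ cokernel.mapIso _ _ (cstI (mA φ) K).symm (cstI (mA φ) G).symm h2, ?_⟩
  rw [Iso.trans_hom, ← Category.assoc]
  have h4 : (Scheme.Modules.pullback (PicF.XTmap (st k X) (mA φ))).map (πA e A c) ≫
      (PreservesCokernel.iso (Scheme.Modules.pullback (PicF.XTmap (st k X) (mA φ)))
        (uu e (SpA k A) fun i => fn k (c i))).hom = cokernel.π _ :=
    PreservesCokernel.π_iso_hom _ _
  rw [h4]
  exact cokernel.π_desc _ _ _

/-- Scaling by units. -/
theorem ueA_smul {A : Type u} [CommRing A] [Algebra k A] (u : A) (c : Fin M → A) :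
    ueA e A (u • c) = fT k X (SpA k A) (fn k u) • ueA (k := k) e A c := by
  simp only [uu, Finset.smul_sum, smul_smul, Pi.smul_apply, smul_eq_mul, map_mul]

theorem ue_pi (A : Type u) [CommRing A] [Algebra k A] (c : Fin M → A) : ueA (k := k) e A c ≫ πA e A c = 0 :=
  cokernel.condition _

instance epi_pi (A : Type u) [CommRing A] [Algebra k A] (c : Fin M → A) : Epi (πA (k := k) e A c) :=
  inferInstanceAs (Epi (cokernel.π _))

/-- Maps out of `VA`. -/
noncomputable def descA (A : Type u) [CommRing A] [Algebra k A] (c : Fin M → A)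
    {H : (PicF.XT (st k X) (SpA k A)).Modules} (g : cst k (SpA k A) G ⟶ H) (w : ueA e A c ≫ g = 0) : VA e A c ⟶ H :=
  cokernel.desc _ g w

theorem pi_descA (A : Type u) [CommRing A] [Algebra k A] (c : Fin M → A)
    {H : (PicF.XT (st k X) (SpA k A)).Modules} (g : cst k (SpA k A) G ⟶ H) (w : ueA e A c ≫ g = 0) :
    πA e A c ≫ descA e A c g w = g := cokernel.π_desc _ _ _

theorem exists_scale {A : Type u} [CommRing A] [Algebra k A] (u : Aˣ) (c c' : Fin M → A)
    (hc : ∀ i, c' i = u * c i) : ∃ I : VA (k := k) e A c' ≅ VA e A c, πA e A c' ≫ I.hom = πA e A c := by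
  obtain rfl : (u : A) • c = c' := funext fun i => (hc i).symm
  have h1 := ueA_smul (k := k) e (u : A) c
  have h2 : ueA (k := k) e A c = fT k X (SpA k A) (fn k (↑u⁻¹ : A)) • ueA (k := k) e A ((u : A) • c) := by
    rw [h1, smul_smul, ← map_mul, ← map_mul, Units.inv_mul, map_one, map_one, one_smul]
  have w1 : ueA (k := k) e A ((u : A) • c) ≫ πA e A c = 0 := by
    rw [h1, Linear.smul_comp, ue_pi, smul_zero]
  have w2 : ueA (k := k) e A c ≫ πA e A ((u : A) • c) = 0 := by
    rw [h2, Linear.smul_comp, ue_pi, smul_zero]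
  refine ⟨{ hom := descA e A _ (πA e A c) w1
            inv := descA e A _ (πA e A ((u : A) • c)) w2
            hom_inv_id := ?_
            inv_hom_id := ?_ }, pi_descA e A _ _ w1⟩
  · rw [← cancel_epi (πA e A ((u : A) • c)), ← Category.assoc, pi_descA, pi_descA, Category.comp_id]
  · rw [← cancel_epi (πA e A c), ← Category.assoc, pi_descA, pi_descA, Category.comp_id]

end K890.KS
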