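import Groth.Agent.BunMod.K890.Seed
import Groth.Agent.BunMod.K997.KS3
import Groth.Agent.BunMod.K360.FitTheta
import Groth.Agent.BunMod.K885.Num
import Groth.Agent.Surf.K460.FlatExt
import Groth.Agent.SDiv.K476.HomSh6
import Groth.Agent.BunMod.K619.Adm
import Mathlib.RingTheory.LaurentSeries

/-!
# The local estimate (REG): limits of subbundles over `Ω⟦X⟧` and the order of the theta function

`core`: a subbundle (with semistable `E`, `F`) of the member `V_c` of the cokernel family over `Ω((X))`,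
`c = a + τ b`, `τ' = unit · X^j`, extends over `Ω⟦X⟧` to the same kind of datum and the theta ideal of `E ⊗ F` contains
`X^j`.
-/

set_option autoImplicit false
universe u

open CategoryTheory CategoryTheory.Limits AlgebraicGeometry PowerSeries MonoidalCategory

namespace K890.Reg

open K140.BM K524.X1Fam K311.KE K824.Join K890.KS K890.Seed Groth.Agent Groth.Agent.LoccohB.HHmap
  Groth.Agent.LoccohB.SectLin303 K54.Theta K54.FamSec
open scoped Groth.Agent.Dcoh.MonCat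

variable {k : Type u} [Field k] {X : Scheme.{u}} [X.Over (Spec (CommRingCat.of k))]

section rings

variable (k) (Ω : Type u) [Field Ω] [Algebra k Ω]

/-- `Ω⟦X⟧ → Ω((X))`. -/
noncomputable def io : Ω⟦X⟧ →ₐ[k] LaurentSeries Ω where
  toRingHom := HahnSeries.ofPowerSeries ℤ Ω
  commutes' _ := rfl

/-- `Ω⟦X⟧ → Ω`. -/
noncomputable def rho : Ω⟦X⟧ →ₐ[k] Ω where
  toRingHom := constantCoeff
  commutes' z := by
    simp [PowerSeries.algebraMap_apply]

end rings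

variable (k X) in
/-- `X_A` over `Spec A`. -/
noncomputable abbrev ovA (A : Type u) [CommRing A] [Algebra k A] :
    (PicF.XT (st k X) (SpA k A)).Over (Spec (CommRingCat.of A)) := ⟨PicF.XTproj (st k X) (SpA k A)⟩

section lim

variable [IsProper (st k X)] [Smooth (st k X)] [GeometricallyConnected (st k X)]

omit [IsProper (st k X)] in
theorem isIntegral_XA (Ω : Type u) [Field Ω] [Algebra k Ω] : IsIntegral (PicF.XT (st k X) (SpA k Ω)) :=
  K757.Geo.isIntegral_XT _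

attribute [local instance] isIntegral_XA K360.FitTheta.isAffine_SpA

variable {K G : X.Modules} {M : ℕ} (e : Fin M → (K ⟶ G)) (Ω : Type u) [Field Ω] [Algebra k Ω]

/-- A limit over `Ω⟦X⟧` of a subbundle of rank `r` and degree `0` over `Ω((X))`. -/
structure Lim (c' : Fin M → Ω⟦X⟧) (r : ℕ) (S' Q' : (PicF.XT (st k X) (SpA k (LaurentSeries Ω))).Modules) where
  /-- the limit of the subbundle -/
  S : (PicF.XT (st k X) (SpA k Ω⟦X⟧)).Modules
  /-- the limit of the quotient -/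
  Q : (PicF.XT (st k X) (SpA k Ω⟦X⟧)).Modules
  /-- the inclusion -/
  i : S ⟶ VA e Ω⟦X⟧ c'
  /-- the projection -/
  p : VA e Ω⟦X⟧ c' ⟶ Q
  w : i ≫ p = 0
  ex : (ShortComplex.mk i p w).ShortExact
  cohS : Coh.IsCoh S
  cohQ : Coh.IsCoh Q
  flS : FlatMod.IsFlatOver (PicF.XTproj (st k X) (SpA k Ω⟦X⟧)) S
  flQ : FlatMod.IsFlatOver (PicF.XTproj (st k X) (SpA k Ω⟦X⟧)) Q
  isoS : Nonempty (pl k X (mA (io k Ω)) S ≅ S')
  isoQ : Nonempty (pl k X (mA (io k Ω)) Q ≅ Q')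
  rk0 : VarietyA.DegRank.rk (pl k X (mA (rho k Ω)) S) = r
  dg0 : letI := ovA k X Ω; K707.Deg.dg Ω (pl k X (mA (rho k Ω)) S) = 0

section dual

omit [IsProper (st k X)] [Smooth (st k X)] [GeometricallyConnected (st k X)]

/-- Duals of isomorphic modules. -/
theorem dual_iso {Y : Scheme.{u}} {S S' E E' : Y.Modules} (a : Nonempty (S ≅ S')) (h : Nonempty (ExactPairing S E))
    (h' : Nonempty (ExactPairing S' E')) : Nonempty (E ≅ E') := by
  obtain ⟨a⟩ := a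
  obtain ⟨h⟩ := h
  obtain ⟨h'⟩ := h'
  exact ⟨rightDualIso h (exactPairingCongrLeft a)⟩

theorem tens_iso {Y : Scheme.{u}} {A A' B B' : Y.Modules} (a : Nonempty (A ≅ A')) (b : Nonempty (B ≅ B')) :
    Nonempty (CohB1.tensorMod A B ≅ CohB1.tensorMod A' B') := by
  obtain ⟨a⟩ := a
  obtain ⟨b⟩ := b
  exact ⟨(whiskerRightIso a B ≪≫ whiskerLeftIso A' b : A ⊗ B ≅ A' ⊗ B')⟩

theorem tens_assoc {Y : Scheme.{u}} (A B D : Y.Modules) :
    Nonempty (CohB1.tensorMod (CohB1.tensorMod A B) D ≅ CohB1.tensorMod A (CohB1.tensorMod B D)) :=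
  ⟨(α_ A B D : (A ⊗ B) ⊗ D ≅ A ⊗ (B ⊗ D))⟩

theorem tens_unit {Y : Scheme.{u}} {A B : Y.Modules} (h : Nonempty (B ≅ Coh.structureModule Y)) :
    Nonempty (CohB1.tensorMod A B ≅ A) := by
  obtain ⟨b⟩ := h
  exact ⟨(whiskerLeftIso A b ≪≫ ρ_ A : A ⊗ B ≅ A)⟩

theorem iso_trans {C : Type*} [Category* C] {A B D : C} (a : Nonempty (A ≅ B)) (b : Nonempty (B ≅ D)) :
    Nonempty (A ≅ D) := by
  obtain ⟨a⟩ := a
  obtain ⟨b⟩ := b
  exact ⟨a ≪≫ b⟩

theorem iso_symm {C : Type*} [Category* C] {A B : C} (a : Nonempty (A ≅ B)) : Nonempty (B ≅ A) := by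
  obtain ⟨a⟩ := a
  exact ⟨a.symm⟩

/-- `(Q ⊗ B) ⊗ A ≅ Q` for `B ⊗ A ≅ O`. -/
theorem tens_cancel {Y : Scheme.{u}} {Q A B : Y.Modules}
    (h : Nonempty (CohB1.tensorMod B A ≅ Coh.structureModule Y)) :
    Nonempty (CohB1.tensorMod (CohB1.tensorMod Q B) A ≅ Q) :=
  iso_trans (tens_assoc Q B A) (tens_unit h)

/-- Constant families of inverse modules are inverse. -/
theorem cst_inv (T : Over (B0 k)) {A B : X.Modules} (h : Nonempty (CohB1.tensorMod A B ≅ Coh.structureModule X)) :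
    Nonempty (CohB1.tensorMod (cst k T A) (cst k T B) ≅ Coh.structureModule (PicF.XT (st k X) T)) := by
  obtain ⟨h⟩ := h
  exact iso_trans (iso_symm (K757.Fam.pull_tens _ A B))
    (iso_trans ⟨(Scheme.Modules.pullback (pullback.fst (st k X) T.hom)).mapIso h⟩ (K757.Fam.pull_unit _))

/-- The dual object is `RefHull.dual`. -/
theorem dual_ref {Y : Scheme.{u}} {S E : Y.Modules} (h : Nonempty (ExactPairing S E)) :
    Nonempty (E ≅ RefHull.dual S) := by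
  obtain ⟨h⟩ := h
  exact ⟨K708.DualDeg.dualIso S E ≪≫ (K476.HomSh6.cmpIso S _).symm⟩

theorem pair_pull {T T' : Over (B0 k)} (g : T' ⟶ T) {S E : (PicF.XT (st k X) T).Modules}
    (h : Nonempty (ExactPairing S E)) : Nonempty (ExactPairing (pl k X g S) (pl k X g E)) := by
  obtain ⟨h⟩ := h
  let _ := Dcoh.MonPull.monPull (PicF.XTmap (st k X) g)
  exact ⟨Dcoh.MonDual.mapExactPairing (Scheme.Modules.pullback (PicF.XTmap (st k X) g)) S E⟩

end dual

section core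

variable {e Ω}

/-- **The closed fibre of a limit**: `Q₀` is locally free of rank `m`, `S₀` and `Q₀` are semistable. -/
theorem closed (hdim : topologicalKrullDim X = 1) {c' : Fin M → Ω⟦X⟧} {c₀ : Fin M → Ω}
    (hc : ∀ i, c₀ i = rho k Ω (c' i)) {r m g : ℕ} (hr : 0 < r) (hm : 0 < m) (hg : 2 ≤ g)
    (hχ : letI := ovA k X Ω
      Curv2.euler Ω (PicF.XT (st k X) (SpA k Ω)) (Coh.structureModule _) = 1 - (g : ℤ))
    (hV : FlatMod.IsFinLocFreeOfRank (r + m) (VA (k := k) e Ω c₀))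
    (hVd : letI := ovA k X Ω
      K707.Deg.dg Ω (VA (k := k) e Ω c₀) = m * ((g : ℤ) - 1))
    (hone : letI := ovA k X Ω
      K885.Num.SubOne Ω (VA (k := k) e Ω c₀))
    {S' Q' : (PicF.XT (st k X) (SpA k (LaurentSeries Ω))).Modules} (L : Lim e Ω c' r S' Q') :
    letI := ovA k X Ω
    FlatMod.IsFinLocFreeOfRank r (pl k X (mA (rho k Ω)) L.S) ∧
    FlatMod.IsFinLocFreeOfRank m (pl k X (mA (rho k Ω)) L.Q) ∧
    K707.Semi.SS Ω (pl k X (mA (rho k Ω)) L.S) ∧ K707.Semi.SS Ω (pl k X (mA (rho k Ω)) L.Q) ∧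
    K707.Deg.dg Ω (pl k X (mA (rho k Ω)) L.Q) = m * ((g : ℤ) - 1) := by
  let _ := ovA k X Ω
  have hpr : IsProper (PicF.XT (st k X) (SpA k Ω) ↘ Spec (CommRingCat.of Ω)) :=
    inferInstanceAs (IsProper (pullback.snd (st k X) (SpA k Ω).hom))
  have C : K707.Base.Crv Ω (PicF.XT (st k X) (SpA k Ω)) := K757.Geo.crv_XT hdim _
  let P := Scheme.Modules.pullback (PicF.XTmap (st k X) (mA (rho k Ω)))
  have ex0 : ((ShortComplex.mk L.i L.p L.w).map P).ShortExact :=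
    Surf.K460.FlatExt.shortExact_pullback (K311.KE.isPullback_XTmap (mA (rho k Ω))) _ L.ex L.flQ
  let I := bcI e (rho k Ω) c' c₀ hc
  have w0 : (P.map L.i ≫ I.hom) ≫ I.inv ≫ P.map L.p = 0 := by
    rw [Category.assoc, Iso.hom_inv_id_assoc, ← Functor.map_comp, L.w, Functor.map_zero]
  have ex1 : (ShortComplex.mk (P.map L.i ≫ I.hom) (I.inv ≫ P.map L.p) w0).ShortExact :=
    shortExact_cong ex0 I w0
  have cS : Coh.IsCoh (pl k X (mA (rho k Ω)) L.S) := FormalB.PullCoh.isCoh_pullback _ L.cohS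
  have cQ : Coh.IsCoh (pl k X (mA (rho k Ω)) L.Q) := FormalB.PullCoh.isCoh_pullback _ L.cohQ
  have hVf := K707.Base.isFinLocFree_of_rank hV
  have hrk : VarietyA.DegRank.rk (VA (k := k) e Ω c₀) = r + m := K707.Base.rk_of_rank hV
  have hN := hone.numSub C
  have q1 := K885.Num.vb_quot C hg hχ hVf hrk hVd hN hr hm _ _ w0 ex1 cS L.rk0 L.dg0
  have s1 := K885.Num.ss_sub C hg hχ hVf hrk hVd hN hr hm _ _ w0 ex1 cS L.rk0 L.dg0
  have q2 := K885.Num.rk_dg_quot C hg hχ hVf hrk hVd hN hr hm _ _ w0 ex1 cS cQ L.rk0 L.dg0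
  have q3 := K885.Num.ss_quot C hg hχ hVf hrk hVd hN hr hm _ _ w0 ex1 cS cQ L.rk0 L.dg0
  have hi : Mono (P.map L.i ≫ I.hom) := ex1.mono_f
  have s0 : FlatMod.IsFinLocFree (pl k X (mA (rho k Ω)) L.S) := K707.Slope.vb_of_mono C (P.map L.i ≫ I.hom) cS hVf
  refine ⟨?_, ?_, s1, q3, q2.2⟩
  · have h := K707.Base.isFinLocFreeOfRank_rk s0
    rwa [L.rk0] at h
  · have h := K707.Base.isFinLocFreeOfRank_rk q1
    rwa [q2.1] at h

/-- **(REG), core form.** -/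
theorem core [CharZero k] (hdim : topologicalKrullDim X = 1) {a b : Fin M → Ω}
    (hab : AlgebraicIndependent k (Sum.elim a b)) {τ u : Ω⟦X⟧} {j : ℕ} (hu : IsUnit u)
    (hτ : PowerSeries.derivative Ω τ = u * PowerSeries.X ^ j) {r m g : ℕ} (hr : 0 < r) (hm : 0 < m) (hg : 2 ≤ g)
    {N : X.Modules} (hN : PicF.IsInvertible N)
    (hχ : letI := ovA k X Ω
      Curv2.euler Ω (PicF.XT (st k X) (SpA k Ω)) (Coh.structureModule _) = 1 - (g : ℤ))
    (hNd : letI := ovA k X Ω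
      K707.Deg.dg Ω (cst k (SpA k Ω) N) = (g : ℤ) - 1)
    (hV : FlatMod.IsFinLocFreeOfRank (r + m) (VA (k := k) e Ω⟦X⟧ fun i => C (a i) + τ * C (b i)))
    (hVd : letI := ovA k X Ω
      K707.Deg.dg Ω (VA (k := k) e Ω fun i => a i + constantCoeff τ * b i) = m * ((g : ℤ) - 1))
    (hK0 : KSMain (k := k) e Ω fun i => a i + constantCoeff τ * b i)
    (hK1 : KSMain (k := k) e Ω⟦X⟧ fun i => C (a i) + τ * C (b i))
    (hone : letI := ovA k X Ω
      ∀ W Q : (PicF.XT (st k X) (SpA k Ω)).Modules, FlatMod.IsFinLocFree W → FlatMod.IsFinLocFree Q →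
        ∀ h₀ : R1 (k := k) Ω (CohB1.tensorMod (RefHull.dual W) Q), (∀ x, ∃ r : Ω, x = fn k r • h₀) →
        ∃ (W' : _) (_ : ExactPairing W W'), Module.finrank Ω (Coh.HH _ (CohB1.tensorMod Q W') 1) ≤ 1)
    (flf : ∀ (H : (PicF.XT (st k X) (SpA k Ω⟦X⟧)).Modules) (n : ℕ), Coh.IsCoh H →
      FlatMod.IsFlatOver (PicF.XTproj (st k X) (SpA k Ω⟦X⟧)) H →
      FlatMod.IsFinLocFreeOfRank n (pl k X (mA (rho k Ω)) H) → FlatMod.IsFinLocFreeOfRank n H)
    (ssfib : letI := ovA k X Ω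
      ∀ (H : (PicF.XT (st k X) (SpA k Ω⟦X⟧)).Modules) (n : ℕ), 0 < n → FlatMod.IsFinLocFreeOfRank n H →
        K707.Semi.SS Ω (pl k X (mA (rho k Ω)) H) → K707.Deg.dg Ω (pl k X (mA (rho k Ω)) H) = 0 →
        BunMod.ussOK (st k X) n 0 (SpA k (LaurentSeries Ω)) (pl k X (mA (io k Ω)) H) →
        BunMod.ussOK (st k X) n 0 (SpA k Ω⟦X⟧) H)
    {cF : Fin M → LaurentSeries Ω} (sF : SubFam k e (LaurentSeries Ω) cF N r m)
    (L : Lim e Ω (fun i => C (a i) + τ * C (b i)) r sF.S sF.Q) :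
    ∃ s : SubFam k e Ω⟦X⟧ (fun i => C (a i) + τ * C (b i)) N r m,
      Nonempty (pl k X (mA (io k Ω)) s.E ≅ sF.E) ∧ Nonempty (pl k X (mA (io k Ω)) s.F ≅ sF.F) ∧
      fn k (PowerSeries.X ^ j : Ω⟦X⟧) ∈
        (thetaIdeal k N (SpA k Ω⟦X⟧) (CohB1.tensorMod s.E s.F)).ideal ⟨⊤, isAffineOpen_top (SpA k Ω⟦X⟧).left⟩ := by
  let _ := ovA k X Ω
  have hpr : IsProper (PicF.XT (st k X) (SpA k Ω) ↘ Spec (CommRingCat.of Ω)) :=
    inferInstanceAs (IsProper (pullback.snd (st k X) (SpA k Ω).hom))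
  have Cv : K707.Base.Crv Ω (PicF.XT (st k X) (SpA k Ω)) := K757.Geo.crv_XT hdim _
  have hc : ∀ i, a i + constantCoeff τ * b i = rho k Ω (C (a i) + τ * C (b i)) := fun i => by
    change _ = constantCoeff _
    simp
  have hV0 : FlatMod.IsFinLocFreeOfRank (r + m) (VA (k := k) e Ω fun i => a i + constantCoeff τ * b i) :=
    K757.Geo.rank_iso ⟨bcI e (rho k Ω) _ _ hc⟩ (PerfB.FibreConc.isFinLocFreeOfRank_pullback _ hV)
  have hsub : K885.Num.SubOne Ω (VA (k := k) e Ω fun i => a i + constantCoeff τ * b i) := by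
    intro W Q i p w hS hW hQ _ _
    obtain ⟨h₀, hgen⟩ := K997.KS3.exists_gen_field e hab _ hK0 i p w hS hW hQ
    exact hone W Q hW hQ h₀ hgen
  obtain ⟨rS, rQ, sS, sQ, dQ⟩ := closed hdim hc hr hm hg hχ hV0 hVd hsub L
  have fS := flf L.S r L.cohS L.flS rS
  have fQ := flf L.Q m L.cohQ L.flQ rQ
  -- the dual of `S`
  obtain ⟨E, ⟨hE⟩⟩ := Dcoh.DualFLF.exists_exactPairing (K707.Base.isFinLocFree_of_rank fS)
  have rE : FlatMod.IsFinLocFreeOfRank r E := K708.Dual.rank_dual fS E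
  -- the twist of `Q`
  obtain ⟨N', hN', hNN'⟩ := Grpsch.PicGrp.exists_inverse hN
  have hN'N : Nonempty (CohB1.tensorMod N' N ≅ Coh.structureModule X) :=
    iso_trans ⟨(β_ N' N : N' ⊗ N ≅ N ⊗ N')⟩ hNN'
  let F := CohB1.tensorMod L.Q (cst k (SpA k Ω⟦X⟧) N')
  have rF : FlatMod.IsFinLocFreeOfRank m F := by
    have h := K706.TensFam.rank_tensMod fQ (PerfB.FibreConc.isFinLocFreeOfRank_pullback
      (pullback.fst (st k X) (SpA k Ω⟦X⟧).hom) (K707.TensL.rank_one_iff.mpr hN'))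
    rwa [mul_one] at h
  have tF : Nonempty (CohB1.tensorMod F (cst k (SpA k Ω⟦X⟧) N) ≅ L.Q) := tens_cancel (cst_inv _ hN'N)
  have eE : Nonempty (pl k X (mA (io k Ω)) E ≅ sF.E) :=
    dual_iso L.isoS (pair_pull _ ⟨hE⟩) sF.pair
  have eF : Nonempty (pl k X (mA (io k Ω)) F ≅ sF.F) := by
    refine iso_trans ⟨TwPl (mA (io k Ω)) L.Q N'⟩ (iso_trans (tens_iso (iso_trans L.isoQ (iso_symm sF.tw))
      ⟨Iso.refl _⟩) (tens_cancel (cst_inv _ hNN')))
  have oE : BunMod.ussOK (st k X) r 0 (SpA k Ω⟦X⟧) E := by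
    obtain ⟨hp⟩ := pair_pull (mA (rho k Ω)) ⟨hE⟩
    refine ssfib E r hr rE ?_ ?_ (K757.Geo.ussOK_iso ⟨eE.some.symm⟩ sF.okE)
    · exact K706.TensSS.ss_dual Cv (K707.Base.isFinLocFree_of_rank rS) sS _
    · rw [K708.DualDeg.dg_dual Cv (K707.Base.isFinLocFree_of_rank rS), L.dg0, neg_zero]
  have iN : PicF.IsInvertible (cst k (SpA k Ω) N) := K757.Fam.inv_pull _ hN
  have iN' : PicF.IsInvertible (cst k (SpA k Ω) N') := K757.Fam.inv_pull _ hN'
  have e0 : pl k X (mA (rho k Ω)) F ≅ CohB1.tensorMod (pl k X (mA (rho k Ω)) L.Q) (cst k (SpA k Ω) N') :=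
    TwPl (mA (rho k Ω)) L.Q N'
  have vQ := K707.Base.isFinLocFree_of_rank rQ
  have dN' : K707.Deg.dg Ω (cst k (SpA k Ω) N') = -((g : ℤ) - 1) := by
    obtain ⟨e⟩ := cst_inv (SpA k Ω) hNN'
    rw [K707.Deg.dg_of_rank Ω (K707.TensL.rank_one_iff.mpr iN'), ← hNd,
      K707.Deg.dg_of_rank Ω (K707.TensL.rank_one_iff.mpr iN)]
    exact K708.Deg.deg_eq_neg Ω Cv.dim.le (K707.TensL.rank_one_iff.mpr iN) (K707.TensL.rank_one_iff.mpr iN') e
  have oF : BunMod.ussOK (st k X) m 0 (SpA k Ω⟦X⟧) F := by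
    refine ssfib F m hm rF ?_ ?_ (K757.Geo.ussOK_iso ⟨eF.some.symm⟩ sF.okF)
    · exact K619.Adm.ss_iso e0.symm (K706.Twist.ss_twist Cv iN' vQ sQ)
    · rw [K707.Deg.dg_iso Ω e0, K706.Twist.dg_twist Cv iN' (K707.Slope.coh_of_vb vQ), dQ, dN',
        K707.Base.rk_of_rank rQ]
      ring
  have hpr' : IsProper (st k X) := inferInstance
  let s : SubFam k e Ω⟦X⟧ (fun i => C (a i) + τ * C (b i)) N r m :=
    { S := L.S, Q := L.Q, E := E, F := F, i := L.i, p := L.p, w := L.w, ex := L.ex, hS := fS, hQ := fQ,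
      pair := ⟨hE⟩, tw := tF, okE := oE, okF := oF }
  refine ⟨s, eE, eF, ?_⟩
  obtain ⟨h₀, hgen, hkill⟩ := K997.KS3.exists_gen_dvr e hab hu hτ hK1 L.i L.p L.w L.ex
    (K707.Base.isFinLocFree_of_rank fS) (K707.Base.isFinLocFree_of_rank fQ)
  have hdual : Nonempty (E ≅ RefHull.dual L.S) := dual_ref ⟨hE⟩
  have hten : Nonempty (CohB1.tensorMod E L.Q ≅ CohB1.tensorMod (RefHull.dual L.S) L.Q) :=
    tens_iso hdual ⟨Iso.refl _⟩
  refine (K360.FitTheta.mem_thetaIdeal_iff hdim.le ?_ ?_ h₀ hgen _).mpr hkill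
  · exact K707.Base.isFinLocFree_of_rank (K757.Geo.rank_iso hten (K706.TensFam.rank_tensMod rE fQ))
  · exact iso_trans (tens_assoc E F _) (iso_trans (tens_iso ⟨Iso.refl _⟩ tF) hten)

section scale

omit [IsProper (st k X)] [Smooth (st k X)] [GeometricallyConnected (st k X)]

variable {R : Type u} [CommRing R] [Algebra k R] {N : X.Modules} {r m : ℕ}

theorem exists_scaled {c : Fin M → R} (s : SubFam k e R c N r m) (u : Rˣ) (c' : Fin M → R)
    (hc : ∀ i, c' i = u * c i) : ∃ s' : SubFam k e R c' N r m, s'.S = s.S ∧ s'.Q = s.Q ∧ s'.E = s.E ∧ s'.F = s.F := by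
  obtain ⟨I, -⟩ := exists_scale (k := k) e u c c' hc
  have w : (s.i ≫ I.symm.hom) ≫ I.symm.inv ≫ s.p = 0 := by
    rw [Category.assoc, Iso.hom_inv_id_assoc, s.w]
  exact ⟨{ S := s.S, Q := s.Q, E := s.E, F := s.F, i := s.i ≫ I.symm.hom, p := I.symm.inv ≫ s.p, w := w
           ex := shortExact_cong s.ex I.symm w, hS := s.hS, hQ := s.hQ, pair := s.pair, tw := s.tw
           okE := s.okE, okF := s.okF }, rfl, rfl, rfl, rfl⟩

end scale

variable (e Ω) in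
/-- What the local estimate needs to know about the cokernel family over `Ω` and `Ω⟦X⟧`. -/
structure Inp (N : X.Modules) (r m g : ℕ) : Prop where
  hr : 0 < r
  hm : 0 < m
  hg : 2 ≤ g
  hN : PicF.IsInvertible N
  hχ : letI := ovA k X Ω
    Curv2.euler Ω (PicF.XT (st k X) (SpA k Ω)) (Coh.structureModule _) = 1 - (g : ℤ)
  hNd : letI := ovA k X Ω
    K707.Deg.dg Ω (cst k (SpA k Ω) N) = (g : ℤ) - 1
  hV : ∀ (a b : Fin M → Ω), AlgebraicIndependent k (Sum.elim a b) → ∀ τ : Ω⟦X⟧,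
    FlatMod.IsFinLocFreeOfRank (r + m) (VA (k := k) e Ω⟦X⟧ fun i => C (a i) + τ * C (b i))
  hVd : letI := ovA k X Ω
    ∀ (a b : Fin M → Ω), AlgebraicIndependent k (Sum.elim a b) → ∀ t : Ω,
      K707.Deg.dg Ω (VA (k := k) e Ω fun i => a i + t * b i) = m * ((g : ℤ) - 1)
  hK0 : ∀ (a b : Fin M → Ω), AlgebraicIndependent k (Sum.elim a b) → ∀ t : Ω,
    KSMain (k := k) e Ω fun i => a i + t * b i
  hK1 : ∀ (a b : Fin M → Ω), AlgebraicIndependent k (Sum.elim a b) → ∀ τ : Ω⟦X⟧,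
    KSMain (k := k) e Ω⟦X⟧ fun i => C (a i) + τ * C (b i)
  one : letI := ovA k X Ω
    ∀ W Q : (PicF.XT (st k X) (SpA k Ω)).Modules, FlatMod.IsFinLocFree W → FlatMod.IsFinLocFree Q →
      ∀ h₀ : R1 (k := k) Ω (CohB1.tensorMod (RefHull.dual W) Q), (∀ x, ∃ r : Ω, x = fn k r • h₀) →
      ∃ (W' : _) (_ : ExactPairing W W'), Module.finrank Ω (Coh.HH _ (CohB1.tensorMod Q W') 1) ≤ 1
  flf : ∀ (H : (PicF.XT (st k X) (SpA k Ω⟦X⟧)).Modules) (n : ℕ), Coh.IsCoh H →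
    FlatMod.IsFlatOver (PicF.XTproj (st k X) (SpA k Ω⟦X⟧)) H →
    FlatMod.IsFinLocFreeOfRank n (pl k X (mA (rho k Ω)) H) → FlatMod.IsFinLocFreeOfRank n H
  ssfib : letI := ovA k X Ω
    ∀ (H : (PicF.XT (st k X) (SpA k Ω⟦X⟧)).Modules) (n : ℕ), 0 < n → FlatMod.IsFinLocFreeOfRank n H →
      K707.Semi.SS Ω (pl k X (mA (rho k Ω)) H) → K707.Deg.dg Ω (pl k X (mA (rho k Ω)) H) = 0 →
      BunMod.ussOK (st k X) n 0 (SpA k (LaurentSeries Ω)) (pl k X (mA (io k Ω)) H) →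
      BunMod.ussOK (st k X) n 0 (SpA k Ω⟦X⟧) H
  lim : ∀ (c' : Fin M → Ω⟦X⟧), FlatMod.IsFinLocFreeOfRank (r + m) (VA (k := k) e Ω⟦X⟧ c') →
    ∀ (cF : Fin M → LaurentSeries Ω), (∀ i, cF i = io k Ω (c' i)) →
    ∀ sF : SubFam k e (LaurentSeries Ω) cF N r m, Nonempty (Lim e Ω c' r sF.S sF.Q)

/-- The value of a datum over `Ω((X))` at the closed point: the conclusion of (REG) for a datum over `Ω((X))`. -/
theorem core' [CharZero k] (hdim : topologicalKrullDim X = 1) {N : X.Modules} {r m g : ℕ} (I : Inp (k := k) e Ω N r m g)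
    {a b : Fin M → Ω} (hab : AlgebraicIndependent k (Sum.elim a b)) {τ u : Ω⟦X⟧} {j : ℕ} (hu : IsUnit u)
    (hτ : PowerSeries.derivative Ω τ = u * PowerSeries.X ^ j) {cF : Fin M → LaurentSeries Ω}
    (hcF : ∀ i, cF i = io k Ω (C (a i) + τ * C (b i))) (sF : SubFam k e (LaurentSeries Ω) cF N r m) :
    ∃ s : SubFam k e Ω⟦X⟧ (fun i => C (a i) + τ * C (b i)) N r m,
      Nonempty (pl k X (mA (io k Ω)) s.E ≅ sF.E) ∧ Nonempty (pl k X (mA (io k Ω)) s.F ≅ sF.F) ∧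
      fn k (PowerSeries.X ^ j : Ω⟦X⟧) ∈
        (thetaIdeal k N (SpA k Ω⟦X⟧) (CohB1.tensorMod s.E s.F)).ideal
          ⟨⊤, isAffineOpen_top (SpA k Ω⟦X⟧).left⟩ := by
  obtain ⟨L⟩ := I.lim _ (I.hV a b hab τ) cF hcF sF
  exact core hdim hab hu hτ I.hr I.hm I.hg I.hN I.hχ I.hNd (I.hV a b hab τ) (I.hVd a b hab _) (I.hK0 a b hab _)
    (I.hK1 a b hab τ) I.one I.flf I.ssfib sF L

/-- **(REG)** -/
theorem reg [CharZero k] [IsAlgClosed Ω] (hdim : topologicalKrullDim X = 1) {N : X.Modules} {r m g : ℕ}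
    (I : Inp (k := k) e Ω N r m g) {a b : Fin M → Ω} (hab : AlgebraicIndependent k (Sum.elim a b)) {L : Type u} [Field L]
    [Algebra k L] {x : Fin M → L} (s : SubFam k e L x N r m) {e₀ : ℕ} (he : 0 < e₀)
    {τ : LaurentSeries Ω} (hτ : (∃ c : Ω, τ = HahnSeries.C c + HahnSeries.single (e₀ : ℤ) (1 : Ω)) ∨
      τ = HahnSeries.single (-(e₀ : ℤ)) (1 : Ω))
    (Φ : L →ₐ[k] LaurentSeries Ω) (hΦ : ∀ i, Φ (x i) = HahnSeries.C (a i) + τ * HahnSeries.C (b i)) :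
    ∃ (c' : Fin M → Ω⟦X⟧) (s' : SubFam k e Ω⟦X⟧ c' N r m),
      Nonempty (pl k X (mA (io k Ω)) s'.E ≅ pl k X (mA Φ) s.E) ∧
      Nonempty (pl k X (mA (io k Ω)) s'.F ≅ pl k X (mA Φ) s.F) ∧
      fn k (PowerSeries.X ^ (e₀ - 1) : Ω⟦X⟧) ∈
        (thetaIdeal k N (SpA k Ω⟦X⟧) (CohB1.tensorMod s'.E s'.F)).ideal
          ⟨⊤, isAffineOpen_top (SpA k Ω⟦X⟧).left⟩ := by
  have hΩ : CharZero Ω := charZero_of_injective_algebraMap (algebraMap k Ω).injective
  have ioC : ∀ z : Ω, io k Ω (C z) = HahnSeries.C z := fun z => HahnSeries.ofPowerSeries_C z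
  have ioX : ∀ n : ℕ, io k Ω (PowerSeries.X ^ n) = HahnSeries.single (n : ℤ) (1 : Ω) := fun n =>
    HahnSeries.ofPowerSeries_X_pow n
  rcases hτ with ⟨c, rfl⟩ | rfl
  · obtain ⟨w, hw, hd⟩ := K997.KsAlg.exists_unit c (isUnit_one (M := Ω⟦X⟧)) he
    rw [one_mul] at hd
    have hcF : ∀ i, Φ (x i) = io k Ω (C (a i) + (C c + PowerSeries.X ^ e₀) * C (b i)) := fun i => by
      rw [hΦ, _root_.map_add, map_mul, _root_.map_add, ioC, ioC, ioC, ioX]
    obtain ⟨s', h1, h2, h3⟩ := core' hdim I hab hw hd hcF (s.pull Φ _ fun _ => rfl)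
    exact ⟨_, s', h1, h2, h3⟩
  · have hba : AlgebraicIndependent k (Sum.elim b a) := by
      have h := hab.comp Sum.swap Sum.swap_leftInverse.injective
      have h' : Sum.elim a b ∘ Sum.swap = Sum.elim b a := by
        funext z
        cases z <;> rfl
      rwa [h'] at h
    obtain ⟨w, hw, hd⟩ := K997.KsAlg.exists_unit (0 : Ω) (isUnit_one (M := Ω⟦X⟧)) he
    rw [one_mul, map_zero, zero_add] at hd
    let v : (LaurentSeries Ω)ˣ := Units.mk0 (HahnSeries.single (e₀ : ℤ) (1 : Ω))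
      (HahnSeries.single_ne_zero one_ne_zero)
    have hcF : ∀ i, (v : LaurentSeries Ω) * Φ (x i) = io k Ω (C (b i) + PowerSeries.X ^ e₀ * C (a i)) := fun i => by
      rw [hΦ, _root_.map_add, map_mul, ioC, ioC, ioX, mul_add, ← mul_assoc]
      have h1 : (v : LaurentSeries Ω) * HahnSeries.single (-(e₀ : ℤ)) (1 : Ω) = 1 := by
        change HahnSeries.single (e₀ : ℤ) (1 : Ω) * HahnSeries.single (-(e₀ : ℤ)) (1 : Ω) = 1
        rw [HahnSeries.single_mul_single, add_neg_cancel, mul_one]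
        rfl
      rw [h1, one_mul, add_comm]
      rfl
    obtain ⟨t, -, -, tE, tF⟩ := exists_scaled (s.pull Φ _ fun _ => rfl) v (fun i => v * Φ (x i)) fun _ => rfl
    obtain ⟨s', h1, h2, h3⟩ := core' hdim I hba hw hd hcF t
    rw [tE] at h1
    rw [tF] at h2
    exact ⟨_, s', h1, h2, h3⟩

end core

end lim

end K890.Reg
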