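import Groth.Agent.BunMod.K890.RegFinal
import Groth.Agent.BunMod.K977.KsMain

/-!
# The local estimate (REG) for the data `K276.Data`
-/

set_option autoImplicit false
universe u

open CategoryTheory CategoryTheory.Limits AlgebraicGeometry

namespace K890.RegEnd

open K140.BM K890.KS Groth.Agent

variable {k : Type u} [Field k] {X : Scheme.{u}} [X.Over (Spec (CommRingCat.of k))]
  [IsProper (X ↘ Spec (CommRingCat.of k))] [Smooth (X ↘ Spec (CommRingCat.of k))]
  [GeometricallyConnected (X ↘ Spec (CommRingCat.of k))]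

/-- **(REG) for the data of a versal family.** -/
theorem reg [IsAlgClosed k] [CharZero k] (hdim : topologicalKrullDim X = 1) {g r m : ℕ} (hr : 0 < r) (hm : 0 < m)
    (hg : 2 ≤ g) (hgX : Curv2.genus k X = g)
    {N D₀ : X.Modules} (hN : PicF.IsInvertible N) (hNd : Curv2.deg k X N 1 = (g : ℤ) - 1) (hD₀ : PicF.IsInvertible D₀)
    (hD₀d : Curv2.deg k X D₀ 1 = m * ((g : ℤ) - 1)) (D : K276.Data k X r m N D₀) :
    K536.Asm.REG (k := k) D.e N r m :=
  RegFinal.reg_ks hdim hr hm hg hgX hN hNd hD₀ hD₀d D fun A _ _ _ _ c hV hm h1 =>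
    K977.KsMain.ks hdim.le D A c hV hm h1

end K890.RegEnd
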