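import Groth.Agent.BunMod.K890.RegData
import Groth.Agent.BunMod.K276.Vers

/-!
# The local estimate (REG) for the data `K276.Data`, closed form
-/

set_option autoImplicit false
universe u

open CategoryTheory CategoryTheory.Limits AlgebraicGeometry PowerSeries MonoidalCategory

namespace K890.RegFinal

open K140.BM K524.X1Fam K311.KE K824.Join K890.KS K890.Seed K890.Reg K890.RegMain Groth.Agent K54.Theta K54.FamSec
open scoped Groth.Agent.Dcoh.MonCat

variable {k : Type u} [Field k] {X : Scheme.{u}} [X.Over (Spec (CommRingCat.of k))]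
  [IsProper (X ↘ Spec (CommRingCat.of k))] [Smooth (X ↘ Spec (CommRingCat.of k))]
  [GeometricallyConnected (X ↘ Spec (CommRingCat.of k))]

/-- **(REG) for the data of a versal family.** -/
theorem reg_ks [IsAlgClosed k] [CharZero k] (hdim : topologicalKrullDim X = 1) {g r m : ℕ} (hr : 0 < r) (hm : 0 < m)
    (hg : 2 ≤ g) (hgX : Curv2.genus k X = g)
    {N D₀ : X.Modules} (hN : PicF.IsInvertible N) (hNd : Curv2.deg k X N 1 = (g : ℤ) - 1) (hD₀ : PicF.IsInvertible D₀)
    (hD₀d : Curv2.deg k X D₀ 1 = m * ((g : ℤ) - 1)) (D : K276.Data k X r m N D₀)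
    (ks : ∀ (A : Type u) [CommRing A] [IsNoetherianRing A] [IsDomain A] [Algebra k A] (c : Fin D.M → A),
      FlatMod.IsFinLocFreeOfRank (r + m) (VA (k := k) D.e A c) → Mono (ueA (k := k) D.e A c) →
      Subsingleton (Coh.HH (PicF.XT (st k X) (SpA k A)) (CohB1.tensorMod (VA (k := k) D.e A c) (cst k (SpA k A) D.G')) 1) →
      KSMain (k := k) D.e A c) :
    K536.Asm.REG (k := k) D.e N r m := by
  have hX : IsIntegral X := K705.Setup.isIntegral_of_geomConn k X
  have hχ : Curv2.euler k X (Coh.structureModule X) = 1 - (g : ℤ) := by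
    rw [K703.Chi.euler_structure k hdim, hgX]
  exact RegData.reg_data hdim hr hm hg hN hNd hχ hD₀ hD₀d D (fun Ω _ _ _ γ hγ => K276.Vers.vp_data hdim D γ hγ) ks

end K890.RegFinal
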