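import Groth.Agent.BunMod.K890.Reg
import Groth.Agent.BunMod.K278.Limit
import Groth.Agent.BunMod.K360.One
import Groth.Agent.BunMod.K619.SSFib
import Groth.Agent.BunMod.K885.SdVan
import Groth.Agent.BunMod.K536.AsmDefs
import Groth.Agent.CurvesB.VABaseChange

/-!
# The local estimate (REG) for a cokernel family

`inp`: the hypotheses `K890.Reg.Inp` of the local estimate from the rank of `V_γ` over `Ω` at the generic points
`γ = a + t b`, the numbers over `k` and the Kodaira-Spencer statements.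
-/

set_option autoImplicit false
universe u

open CategoryTheory CategoryTheory.Limits AlgebraicGeometry PowerSeries MonoidalCategory

namespace K890.RegMain

open K140.BM K524.X1Fam K311.KE K824.Join K890.KS K890.Seed K890.Reg Groth.Agent K54.Theta K54.FamSec
open scoped Groth.Agent.Dcoh.MonCat

variable {k : Type u} [Field k] {X : Scheme.{u}} [X.Over (Spec (CommRingCat.of k))]
  {K G : X.Modules} {M : ℕ} (e : Fin M → (K ⟶ G)) (Ω : Type u) [Field Ω] [Algebra k Ω]

section num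

variable [IsProper (st k X)]

theorem isPullback_XA (k : Type u) [Field k] (X : Scheme.{u}) [X.Over (Spec (CommRingCat.of k))] (Ω : Type u) [Field Ω]
    [Algebra k Ω] :
    letI := ovA k X Ω
    IsPullback (pullback.fst (st k X) (SpA k Ω).hom) (PicF.XT (st k X) (SpA k Ω) ↘ Spec (CommRingCat.of Ω))
      (X ↘ Spec (CommRingCat.of k)) (Spec.map (CommRingCat.ofHom (algebraMap k Ω))) :=
  IsPullback.of_hasPullback _ _

/-- The Euler characteristic of the structure sheaf. -/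
theorem euler_bc {g : ℕ} (hχ : Curv2.euler k X (Coh.structureModule X) = 1 - (g : ℤ)) :
    letI := ovA k X Ω
    Curv2.euler Ω (PicF.XT (st k X) (SpA k Ω)) (Coh.structureModule _) = 1 - (g : ℤ) := by
  have : IsProper (X ↘ Spec (CommRingCat.of k)) := ‹IsProper (st k X)›
  let _ := ovA k X Ω
  rw [← hχ]
  exact CurvesB.VABaseChange.euler_structure_eq (k := k) (K := Ω) (isPullback_XA k X Ω)

variable [Smooth (st k X)] [GeometricallyConnected (st k X)]

attribute [local instance] isIntegral_XA K360.FitTheta.isAffine_SpA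

/-- Degrees of constant families. -/
theorem dg_bc {n : ℕ} {H : X.Modules} (hH : FlatMod.IsFinLocFreeOfRank n H) :
    letI := ovA k X Ω
    K707.Deg.dg Ω (cst k (SpA k Ω) H) = Curv2.deg k X H n := by
  have : IsProper (X ↘ Spec (CommRingCat.of k)) := ‹IsProper (st k X)›
  let _ := ovA k X Ω
  have h := PerfB.FibreConc.isFinLocFreeOfRank_pullback (pullback.fst (st k X) (SpA k Ω).hom) hH
  rw [K707.Deg.dg_of_rank Ω h]
  exact CurvesB.VABaseChange.deg_eq (k := k) (K := Ω) (isPullback_XA k X Ω) H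
    (PerfA.QCohEpi.isQCoh_of_isFinLocFree (K707.Base.isFinLocFree_of_rank hH)) n

/-- The degree of the cokernel. -/
theorem dg_VA {n : ℕ} {d : ℤ} {c : Fin M → Ω} (hK : FlatMod.IsFinLocFreeOfRank 1 K) (hG : FlatMod.IsFinLocFreeOfRank (n + 1) G)
    (hdeg : Curv2.deg k X G (n + 1) = Curv2.deg k X K 1 + d) (hV : FlatMod.IsFinLocFreeOfRank n (VA (k := k) e Ω c)) :
    letI := ovA k X Ω
    K707.Deg.dg Ω (VA (k := k) e Ω c) = d := by
  let _ := ovA k X Ω
  have hpr : IsProper (PicF.XT (st k X) (SpA k Ω) ↘ Spec (CommRingCat.of Ω)) :=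
    inferInstanceAs (IsProper (pullback.snd (st k X) (SpA k Ω).hom))
  have hK' := PerfB.FibreConc.isFinLocFreeOfRank_pullback (pullback.fst (st k X) (SpA k Ω).hom) hK
  have hG' := PerfB.FibreConc.isFinLocFreeOfRank_pullback (pullback.fst (st k X) (SpA k Ω).hom) hG
  have hm : Mono (ueA (k := k) e Ω c) := K524.X1Coker.mono_of_rank hK' hG' _ hV
  have w : ueA (k := k) e Ω c ≫ πA (k := k) e Ω c = 0 := ue_pi e Ω c
  have hex : (ShortComplex.mk _ _ w).ShortExact :=
    { exact := ShortComplex.exact_of_g_is_cokernel _ (cokernelIsCokernel _)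
      mono_f := hm
      epi_g := epi_pi e Ω c }
  have h := K707.Deg.dg_add Ω _ hex (K707.Base.isCoh_of_rank hK') (K707.Base.isCoh_of_rank hG')
    (K707.Base.isCoh_of_rank hV)
  have h1 : K707.Deg.dg Ω (cst k (SpA k Ω) G) = K707.Deg.dg Ω (cst k (SpA k Ω) K) +
    K707.Deg.dg Ω (VA (k := k) e Ω c) := h
  rw [dg_bc Ω hK, dg_bc Ω hG, hdeg] at h1
  linarith

section pieces

variable (k) in
omit [Algebra k Ω] in
theorem isLocalHom_rho [Algebra k Ω] : IsLocalHom (rho k Ω).toRingHom :=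
  ⟨fun _ hx => PowerSeries.isUnit_iff_constantCoeff.mpr hx⟩

attribute [local instance] isLocalHom_rho

variable (k X) in
/-- (FLF) -/
theorem flf_main {H : (PicF.XT (st k X) (SpA k Ω⟦X⟧)).Modules} {n : ℕ} (hc : Coh.IsCoh H)
    (hf : FlatMod.IsFlatOver (PicF.XTproj (st k X) (SpA k Ω⟦X⟧)) H)
    (h : FlatMod.IsFinLocFreeOfRank n (pl k X (mA (rho k Ω)) H)) : FlatMod.IsFinLocFreeOfRank n H := by
  have hpr : IsProper (PicF.XTproj (st k X) (SpA k Ω⟦X⟧)) :=
    inferInstanceAs (IsProper (pullback.snd (st k X) (SpA k Ω⟦X⟧).hom))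
  have hsm : Smooth (PicF.XTproj (st k X) (SpA k Ω⟦X⟧)) :=
    inferInstanceAs (Smooth (pullback.snd (st k X) (SpA k Ω⟦X⟧).hom))
  have ht : (mA (rho k Ω)).left (IsLocalRing.closedPoint Ω) = IsLocalRing.closedPoint Ω⟦X⟧ :=
    IsLocalRing.comap_closedPoint (rho k Ω).toRingHom
  have h1 : FlatMod.IsFinLocFree H := K278.Limit.isFinLocFree_of_special hc hf
    (K54.Theta.isPullback_XTmap (mA (rho k Ω))) ht (K707.Base.isFinLocFree_of_rank h)
  have hirr : IrreducibleSpace (PicF.XT (st k X) (SpA k Ω⟦X⟧)) :=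
    K278.Limit.irreducibleSpace (K278.Limit.isPullback_XT (mA (io k Ω)) rfl)
  have h2 := K707.Base.isFinLocFreeOfRank_rk h1
  have h3 := PerfB.FibreConc.isFinLocFreeOfRank_pullback (PicF.XTmap (st k X) (mA (rho k Ω))) h2
  have h4 : n = VarietyA.DegRank.rk H := by rw [← K707.Base.rk_of_rank h, ← K707.Base.rk_of_rank h3]
  rw [h4]
  exact h2

/-- (SSFIB) -/
theorem ssfib_main (hdim : topologicalKrullDim X = 1) {H : (PicF.XT (st k X) (SpA k Ω⟦X⟧)).Modules} {n : ℕ} (hn : 0 < n)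
    (hH : FlatMod.IsFinLocFreeOfRank n H)
    (hs : letI := ovA k X Ω
      K707.Semi.SS Ω (pl k X (mA (rho k Ω)) H))
    (hd : letI := ovA k X Ω
      K707.Deg.dg Ω (pl k X (mA (rho k Ω)) H) = 0) :
    BunMod.ussOK (st k X) n 0 (SpA k Ω⟦X⟧) H := by
  have i1 : IsProper (X ↘ Spec (CommRingCat.of k)) := ‹IsProper (st k X)›
  have i2 : Smooth (X ↘ Spec (CommRingCat.of k)) := ‹Smooth (st k X)›
  have i3 : GeometricallyConnected (X ↘ Spec (CommRingCat.of k)) := ‹GeometricallyConnected (st k X)›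
  have h1 := PerfB.FibreConc.isFinLocFreeOfRank_pullback (PicF.XTmap (st k X) (mA (rho k Ω))) hH
  refine K619.SSFib.ssfib' hdim hn (rho k Ω) hH ?_ ?_
  · let _ := ovA k X Ω
    exact (K707.Deg.dg_of_rank Ω h1).symm.trans hd
  · let _ := ovA k X Ω
    have hpr : IsProper (PicF.XT (st k X) (SpA k Ω) ↘ Spec (CommRingCat.of Ω)) :=
      inferInstanceAs (IsProper (pullback.snd (st k X) (SpA k Ω).hom))
    exact (K707.Semi.ss_iff (K757.Geo.crv_XT hdim _) h1).mp hs

variable {Ω}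

/-- (LIMIT) -/
theorem lim_main (hdim : topologicalKrullDim X = 1) {r m : ℕ} {N : X.Modules} {c' : Fin M → Ω⟦X⟧}
    (hV : FlatMod.IsFinLocFreeOfRank (r + m) (VA (k := k) e Ω⟦X⟧ c')) {cF : Fin M → LaurentSeries Ω}
    (hc : ∀ i, cF i = io k Ω (c' i)) (sF : SubFam k e (LaurentSeries Ω) cF N r m) :
    Nonempty (Lim e Ω c' r sF.S sF.Q) := by
  have i1 : IsProper (X ↘ Spec (CommRingCat.of k)) := ‹IsProper (st k X)›
  have i2 : Smooth (X ↘ Spec (CommRingCat.of k)) := ‹Smooth (st k X)›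
  have i3 : GeometricallyConnected (X ↘ Spec (CommRingCat.of k)) := ‹GeometricallyConnected (st k X)›
  let I := bcI e (io k Ω) c' cF hc
  have w : (sF.i ≫ I.symm.hom) ≫ I.symm.inv ≫ sF.p = 0 := by
    rw [Category.assoc, Iso.hom_inv_id_assoc, sF.w]
  have hex := shortExact_cong sF.ex I.symm w
  obtain ⟨L⟩ := K278.Limit.exists_lim_XT hdim Ω⟦X⟧ (LaurentSeries Ω) (mA (io k Ω)) rfl hV _ _ w hex sF.hS
    (K707.Base.isCoh_of_rank sF.hQ)
  have hpr : IsProper (PicF.XTproj (st k X) (SpA k Ω⟦X⟧)) :=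
    inferInstanceAs (IsProper (pullback.snd (st k X) (SpA k Ω⟦X⟧).hom))
  have hsm : Smooth (PicF.XTproj (st k X) (SpA k Ω⟦X⟧)) :=
    inferInstanceAs (Smooth (pullback.snd (st k X) (SpA k Ω⟦X⟧).hom))
  have h0 : letI := ovA k X Ω
      K707.Deg.dg Ω (pl k X (mA (rho k Ω)) L.S) = 0 := by
    let _ := ovA k X Ω
    let _ := ovA k X (LaurentSeries Ω)
    have HP : IsPullback (PicF.XTmap (st k X) (mA (rho k Ω))) (PicF.XT (st k X) (SpA k Ω) ↘ Spec (CommRingCat.of Ω))
        (PicF.XTproj (st k X) (SpA k Ω⟦X⟧)) (mA (rho k Ω)).left := K54.Theta.isPullback_XTmap (mA (rho k Ω))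
    have h1 := L.deg_S (K := LaurentSeries Ω) (Ω := Ω) HP (K278.Limit.isPullback_XT (mA (io k Ω)) rfl)
    rw [K707.Deg.dg_of_rank Ω (L.rank_fib (PicF.XTmap (st k X) (mA (rho k Ω))))]
    exact h1.trans (K885.SdVan.deg_S hdim (LaurentSeries Ω) sF.pair sF.okE).2
  exact ⟨{ S := L.S, Q := L.Q, i := L.ι, p := L.ρ, w := L.w, ex := L.ex
           cohS := K707.Base.isCoh_of_rank L.rankS, cohQ := L.cohQ, flS := L.flatS, flQ := L.flatQ
           isoS := ⟨L.eS⟩, isoQ := ⟨L.eQ⟩, rk0 := K707.Base.rk_of_rank (L.rank_fib _), dg0 := h0 }⟩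

end pieces

/-- **The hypotheses of the local estimate.** -/
theorem inp [CharZero k] (hdim : topologicalKrullDim X = 1) {g r m : ℕ} (hr : 0 < r) (hm : 0 < m) (hg : 2 ≤ g)
    {N : X.Modules} (hN : PicF.IsInvertible N) (hNd : Curv2.deg k X N 1 = (g : ℤ) - 1)
    (hχ : Curv2.euler k X (Coh.structureModule X) = 1 - (g : ℤ))
    (hK : FlatMod.IsFinLocFreeOfRank 1 K) (hG : FlatMod.IsFinLocFreeOfRank (r + m + 1) G)
    (hdeg : Curv2.deg k X G (r + m + 1) = Curv2.deg k X K 1 + m * ((g : ℤ) - 1))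
    (hV : ∀ (a b : Fin M → Ω), AlgebraicIndependent k (Sum.elim a b) → ∀ t : Ω,
      FlatMod.IsFinLocFreeOfRank (r + m) (VA (k := k) e Ω fun i => a i + t * b i))
    (hK0 : ∀ (a b : Fin M → Ω), AlgebraicIndependent k (Sum.elim a b) → ∀ t : Ω,
      KSMain (k := k) e Ω fun i => a i + t * b i)
    (hK1 : ∀ (a b : Fin M → Ω), AlgebraicIndependent k (Sum.elim a b) → ∀ τ : Ω⟦X⟧,
      KSMain (k := k) e Ω⟦X⟧ fun i => C (a i) + τ * C (b i)) :
    Inp (k := k) e Ω N r m g where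
  hr := hr
  hm := hm
  hg := hg
  hN := hN
  hχ := euler_bc Ω hχ
  hNd := (dg_bc Ω (K707.TensL.rank_one_iff.mpr hN)).trans hNd
  hV a b hab τ := by
    have i1 : IsProper (X ↘ Spec (CommRingCat.of k)) := ‹IsProper (st k X)›
    have hl := isLocalHom_rho k Ω
    refine K619.VpLoc.rank e (rho k Ω) _ hK hG ?_
    have h : (fun i => rho k Ω (C (a i) + τ * C (b i))) = fun i => a i + constantCoeff τ * b i := by
      funext i
      change constantCoeff _ = _
      simp
    rw [h]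
    exact hV a b hab _
  hVd a b hab t := dg_VA e Ω hK hG (by rw [hdeg]) (hV a b hab t)
  hK0 := hK0
  hK1 := hK1
  one W Q hW hQ h₀ hgen := K360.One.main hW hQ h₀ hgen
  flf H n hc hf h := flf_main k X Ω hc hf h
  ssfib H n hn hH hs hd _ := ssfib_main Ω hdim hn hH hs hd
  lim c' hV cF hc sF := lim_main e hdim hV hc sF

end num

end K890.RegMain
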